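import Groth.Agent.GrpFixedLib.Purity
import Groth.Agent.CMFlatLib.Group
import Groth.Agent.CMFlatLib.Basic
import Groth.Agent.CMFlatLib.Open
import Groth.Agent.HomogSepLib.Irr
import Groth.Agent.WeilResLib.GrpGen

/-!
# Affine opens of group schemes over a field: irreducible, without embedded components
-/

set_option autoImplicit false
set_option backward.isDefEq.respectTransparency false
set_option linter.style.haveILetI false

noncomputable section

universe u

open CategoryTheory CategoryTheory.Limits MonoidalCategory CartesianMonoidalCategory AlgebraicGeometry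

namespace Groth.Agent.GrpFixed

variable {S : Scheme.{u}}

/-- A point fibre of a group with connected fibres is irreducible. -/
theorem irreducibleSpace_pullback_field (G : Over S) [GrpObj G] [LocallyOfFiniteType G.hom]
    [GeometricallyConnected G.hom] {K : Type u} [Field K] (t : Spec (CommRingCat.of K) ⟶ S) :
    IrreducibleSpace ↥(pullback G.hom t) := by
  let b : Spec (CommRingCat.of (AlgebraicClosure K)) ⟶ Spec (CommRingCat.of K) :=
    Spec.map (CommRingCat.ofHom (algebraMap K (AlgebraicClosure K)))
  let Gt := (Over.pullback (b ≫ t)).obj G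
  letI : GrpObj Gt := Functor.grpObjObj
  haveI : LocallyOfFiniteType Gt.hom := MorphismProperty.pullback_snd _ _ inferInstance
  haveI : GeometricallyConnected Gt.hom :=
    inferInstanceAs (GeometricallyConnected (pullback.snd G.hom (b ≫ t)))
  haveI : ConnectedSpace Gt.left := GeometricallyConnected.connectedSpace_of_subsingleton Gt.hom
  haveI : IrreducibleSpace Gt.left := HomogSep.irreducibleSpace_grp (G := Gt)
  let m : Gt.left ⟶ pullback G.hom t := pullback.lift (pullback.fst _ _) (pullback.snd _ _ ≫ b) (by
    rw [Category.assoc]; exact pullback.condition)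
  have hpb : IsPullback m (pullback.snd G.hom (b ≫ t)) (pullback.snd G.hom t) b :=
    IsPullback.of_right (by simpa [m] using IsPullback.of_hasPullback G.hom (b ≫ t))
      (pullback.lift_snd _ _ _) (IsPullback.of_hasPullback G.hom t)
  haveI : Surjective b := ⟨fun x => ⟨IsLocalRing.closedPoint _, Subsingleton.elim _ _⟩⟩
  haveI : Surjective m := MorphismProperty.of_isPullback hpb.flip inferInstance
  exact m.surjective.irreducibleSpace m.continuous

/-- An affine open subscheme of a point fibre of a group with connected fibres is irreducible, and has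
no embedded associated prime. -/
theorem uniqueAss_of_openImmersion (G : Over S) [GrpObj G] [LocallyOfFiniteType G.hom]
    [GeometricallyConnected G.hom] {K : Type u} [Field K] (t : Spec (CommRingCat.of K) ⟶ S)
    {T : Type u} [CommRing T] [Nontrivial T] (j : Spec (CommRingCat.of T) ⟶ pullback G.hom t) [IsOpenImmersion j] :
    (nilradical T).IsPrime ∧ ∀ q ∈ associatedPrimes T T, q ≤ nilradical T := by
  haveI := irreducibleSpace_pullback_field G t
  haveI : Nonempty ↥(Spec (CommRingCat.of T)) := inferInstanceAs (Nonempty (PrimeSpectrum T))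
  haveI : PreirreducibleSpace ↥(Spec (CommRingCat.of T)) :=
    ⟨(PreirreducibleSpace.isPreirreducible_univ (X := ↥(pullback G.hom t))).preimage
      j.isOpenEmbedding⟩
  haveI : IrreducibleSpace (PrimeSpectrum T) :=
    show IrreducibleSpace ↥(Spec (CommRingCat.of T)) from ⟨‹Nonempty ↥(Spec (CommRingCat.of T))›⟩
  have hnil : (nilradical T).IsPrime := PrimeSpectrum.irreducibleSpace_iff_isPrime_nilradical.1 inferInstance
  refine ⟨hnil, fun q hq => ?_⟩
  let Gt := (Over.pullback t).obj G
  letI : GrpObj Gt := Functor.grpObjObj
  haveI : LocallyOfFiniteType Gt.hom := MorphismProperty.pullback_snd _ _ inferInstance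
  haveI : IsLocallyNoetherian Gt.left := LocallyOfFiniteType.isLocallyNoetherian Gt.hom
  haveI : IsLocallyNoetherian (Spec (CommRingCat.of T)) := isLocallyNoetherian_of_isOpenImmersion j
  haveI : IsNoetherianRing T := (isLocallyNoetherian_Spec (R := CommRingCat.of T)).1 inferInstance
  haveI := hq.isPrime
  let x : Spec (CommRingCat.of T) := (⟨q, inferInstance⟩ : PrimeSpectrum T)
  let Tq := Localization.AtPrime q
  have hcm0 : LocCoh.IsCohenMacaulayLocalRing ↑((Spec (CommRingCat.of T)).presheaf.stalk x) :=
    (CMFlatLib.isCohenMacaulayLocalRing_congr (asIso (j.stalkMap x)).commRingCatIsoToRingEquiv).1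
      (CMFlatLib.cm_stalk_group Gt (j x))
  have hcm : LocCoh.IsCohenMacaulayLocalRing Tq :=
    (CMFlatLib.isCohenMacaulayLocalRing_congr (StructureSheaf.stalkIso T x).symm.toRingEquiv).1 hcm0
  rw [CMFlatLib.isCohenMacaulayLocalRing_iff_isCM] at hcm
  have hass : IsLocalRing.maximalIdeal Tq ∈ associatedPrimes Tq Tq := by
    refine Module.associatedPrimes.mem_associatedPrimes_of_comap_mem_associatedPrimes_of_isLocalizedModule
      q.primeCompl (Algebra.linearMap T Tq) _ ?_
    rwa [show (IsLocalRing.maximalIdeal Tq).comap (algebraMap T Tq) = q from Localization.AtPrime.under_maximalIdeal]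
  have h0 := (CMFlatLib.isCM_iff_of_depth_zero hass).1 hcm
  rw [IsLocalization.AtPrime.ringKrullDim_eq_height q Tq, WithBot.coe_eq_zero, Ideal.height_eq_zero_iff] at h0
  exact h0.2 ⟨hnil, bot_le⟩ (nilradical_le_prime q)

end Groth.Agent.GrpFixed
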