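import Groth.Agent.WeilResLib.EtaleFixed
import Groth.Agent.WeilResLib.GrpGen

/-!
# A point fixed by a neighbourhood of the unit is fixed by a group with connected fibres
-/

set_option autoImplicit false
set_option backward.isDefEq.respectTransparency false
set_option linter.style.haveILetI false

noncomputable section

universe u

open CategoryTheory CategoryTheory.Limits MonoidalCategory CartesianMonoidalCategory AlgebraicGeometry
open scoped MonObj

namespace Groth.Agent.GrpFixed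

variable {S : Scheme.{u}} {G X : Over S} [GrpObj G]

/-- The orbit map of a point. -/
abbrev orbit (a : AlgGrp.Action G X) {T : Over S} (x : T ⟶ X) : G ⊗ T ⟶ X :=
  lift (fst G T) (snd G T ≫ x) ≫ a.act

theorem comp_orbit (a : AlgGrp.Action G X) {T T' : Over S} (x : T ⟶ X) (g : T' ⟶ G) (t : T' ⟶ T) :
    lift g t ≫ orbit a x = lift g (t ≫ x) ≫ a.act := by
  rw [← Category.assoc, comp_lift, lift_fst, lift_snd_assoc]

/-- The shear `(g, g', t) ↦ (g g', g', t)` followed by the omission of `g'` is flat. -/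
theorem flat_mulPt [Flat G.hom] (T : Over S) :
    Flat (lift (fst G (G ⊗ T) * (snd G (G ⊗ T) ≫ fst G T)) (snd G (G ⊗ T) ≫ snd G T)).left := by
  let sh : G ⊗ (G ⊗ T) ⟶ G ⊗ (G ⊗ T) :=
    lift (fst G (G ⊗ T) * (snd G (G ⊗ T) ≫ fst G T)) (snd G (G ⊗ T))
  let sh' : G ⊗ (G ⊗ T) ⟶ G ⊗ (G ⊗ T) :=
    lift (fst G (G ⊗ T) * (snd G (G ⊗ T) ≫ fst G T)⁻¹) (snd G (G ⊗ T))
  haveI : IsIso sh := ⟨sh',
    CartesianMonoidalCategory.hom_ext _ _
      (by simp [sh, sh', MonObj.comp_mul, GrpObj.comp_inv]) (by simp [sh, sh']),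
    CartesianMonoidalCategory.hom_ext _ _
      (by simp [sh, sh', MonObj.comp_mul, GrpObj.comp_inv]) (by simp [sh, sh'])⟩
  haveI : IsIso sh.left := inferInstanceAs (IsIso ((Over.forget S).map sh))
  have h2 : Flat (snd G T).left := by
    rw [Over.snd_left]
    exact MorphismProperty.pullback_snd _ _ inferInstance
  have hP : IsPullback (G ◁ snd G T).left (snd G (G ⊗ T)).left (snd G T).left (snd G T).left :=
    IsPullback.of_right (h₁₂ := (fst G T).left) (v₁₃ := G.hom) (h₂₂ := T.hom)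
      (by
        rw [← Over.comp_left, whiskerLeft_fst, Over.fst_left, Over.snd_left, Over.w]
        exact IsPullback.of_hasPullback _ _)
      (by rw [← Over.comp_left, ← Over.comp_left, whiskerLeft_snd])
      (by rw [Over.fst_left, Over.snd_left]; exact IsPullback.of_hasPullback _ _)
  haveI : Flat (G ◁ snd G T).left := MorphismProperty.of_isPullback hP.flip h2
  rw [show lift (fst G (G ⊗ T) * (snd G (G ⊗ T) ≫ fst G T)) (snd G (G ⊗ T) ≫ snd G T) = sh ≫ (G ◁ snd G T) from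
    CartesianMonoidalCategory.hom_ext _ _ (by simp [sh]) (by simp [sh]), Over.comp_left]
  infer_instance

/-- A point fixed on an open neighbourhood of the unit section is fixed. -/
theorem fixed_of_open [LocallyOfFiniteType G.hom] [Flat G.hom] [GeometricallyConnected G.hom]
    (a : AlgGrp.Action G X) {T : Over S} (x : T ⟶ X) (O : (G ⊗ T).left.Opens)
    (h1 : ∀ p : T.left, (lift (1 : T ⟶ G) (𝟙 T)).left p ∈ O)
    (heq : O.ι ≫ (orbit a x).left = O.ι ≫ (snd G T ≫ x).left)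
    {T' : Over S} (t : T' ⟶ T) (g : T' ⟶ G) : lift g (t ≫ x) ≫ a.act = t ≫ x := by
  let P := G ⊗ (G ⊗ T)
  let u₁ : P ⟶ G ⊗ T := G ◁ snd G T
  let u₂ : P ⟶ G ⊗ T := snd G (G ⊗ T)
  let μ' : P ⟶ G ⊗ T := lift (fst G (G ⊗ T) * (u₂ ≫ fst G T)) (u₂ ≫ snd G T)
  let W : P.left.Opens := u₁.left ⁻¹ᵁ O ⊓ u₂.left ⁻¹ᵁ O
  let w : Over.mk (W.ι ≫ P.hom) ⟶ P := Over.homMk W.ι rfl
  have key : ∀ (v : P ⟶ G ⊗ T), Set.range (W.ι ≫ v.left) ⊆ (O : Set (G ⊗ T).left) →
      (w ≫ v) ≫ orbit a x = (w ≫ v) ≫ snd G T ≫ x := by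
    intro v hv
    refine Over.OverMorphism.ext ?_
    have h := congrArg (IsOpenImmersion.lift O.ι (W.ι ≫ v.left) (by rwa [Scheme.Opens.range_ι]) ≫ ·) heq
    simp only [IsOpenImmersion.lift_fac_assoc, Category.assoc] at h
    simpa [w] using h
  have hu₁ := key u₁ (by
    rintro _ ⟨p, rfl⟩
    exact p.2.1)
  have hu₂ := key u₂ (by
    rintro _ ⟨p, rfl⟩
    exact p.2.2)
  have heμ : (w ≫ μ') ≫ orbit a x = (w ≫ μ') ≫ snd G T ≫ x := by
    have e1 : w ≫ μ' = lift ((w ≫ u₁ ≫ fst G T) * (w ≫ u₂ ≫ fst G T)) (w ≫ u₂ ≫ snd G T) :=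
      CartesianMonoidalCategory.hom_ext _ _ (by simp [μ', u₁, MonObj.comp_mul]) (by simp [μ'])
    have e2 : ∀ v : P ⟶ G ⊗ T, w ≫ v = lift (w ≫ v ≫ fst G T) (w ≫ v ≫ snd G T) := fun v =>
      CartesianMonoidalCategory.hom_ext _ _ (by simp) (by simp)
    have hsnd : u₁ ≫ snd G T = u₂ ≫ snd G T := by simp [u₁, u₂]
    rw [e2 u₁, comp_orbit, lift_snd_assoc] at hu₁
    rw [e2 u₂, comp_orbit, lift_snd_assoc] at hu₂
    rw [hsnd] at hu₁
    rw [e1, comp_orbit, lift_snd_assoc, WeilRes.act_mul, hu₂, hu₁]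
  haveI : Flat μ'.left := flat_mulPt T
  haveI : Flat (W.ι ≫ μ'.left) := inferInstance
  haveI : Surjective (W.ι ≫ μ'.left) := by
    refine ⟨fun p => ?_⟩
    let κp := (G ⊗ T).left.residueField p
    let L := AlgebraicClosure κp
    let π : Spec (CommRingCat.of L) ⟶ (G ⊗ T).left :=
      Spec.map (CommRingCat.ofHom (algebraMap κp L)) ≫ (G ⊗ T).left.fromSpecResidueField p
    let TL : Over S := Over.mk (π ≫ (G ⊗ T).hom)
    let Q : TL ⟶ G ⊗ T := Over.homMk π rfl
    let pt : TL.left := IsLocalRing.closedPoint L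
    have hpt : Q.left pt = p := by
      show π pt = p
      rw [Scheme.Hom.comp_apply]
      exact Scheme.fromSpecResidueField_apply _ _
    let sL : TL ⟶ T := Q ≫ snd G T
    let ι₀ : G ⊗ TL ⟶ G ⊗ T := G ◁ sL
    have hι : ∀ g' : TL ⟶ G, lift g' (𝟙 TL) ≫ ι₀ = lift g' sL := fun g' => by simp [ι₀]
    obtain ⟨g₁, g₂, hg, hg₁, hg₂⟩ := WeilRes.exists_mul_mem (π ≫ (G ⊗ T).hom) (ι₀.left ⁻¹' (O : Set (G ⊗ T).left))
      (O.2.preimage ι₀.left.continuous) (by
        show ι₀.left ((lift (1 : TL ⟶ G) (𝟙 TL)).left pt) ∈ O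
        rw [← Scheme.Hom.comp_apply, ← Over.comp_left, hι,
          show lift (1 : TL ⟶ G) sL = sL ≫ lift (1 : T ⟶ G) (𝟙 T) from
            CartesianMonoidalCategory.hom_ext _ _ (by simp) (by simp), Over.comp_left, Scheme.Hom.comp_apply]
        exact h1 _) (Q ≫ fst G T)
    rw [Set.mem_preimage, ← Scheme.Hom.comp_apply, ← Over.comp_left, hι] at hg₁ hg₂
    let z : TL ⟶ P := lift g₁ (lift g₂ sL)
    have hz : z.left pt ∈ W := by
      refine ⟨?_, ?_⟩
      · show u₁.left (z.left pt) ∈ O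
        rw [← Scheme.Hom.comp_apply, ← Over.comp_left, show z ≫ u₁ = lift g₁ sL from by simp [z, u₁]]
        exact hg₁
      · show u₂.left (z.left pt) ∈ O
        rw [← Scheme.Hom.comp_apply, ← Over.comp_left, show z ≫ u₂ = lift g₂ sL from by simp [z, u₂]]
        exact hg₂
    refine ⟨⟨z.left pt, hz⟩, ?_⟩
    show μ'.left (z.left pt) = p
    rw [← Scheme.Hom.comp_apply, ← Over.comp_left, show z ≫ μ' = Q from
      CartesianMonoidalCategory.hom_ext _ _ (by simp [z, μ', u₂, MonObj.comp_mul, hg]) (by simp [z, μ', u₂, sL])]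
    exact hpt
  haveI : Epi (W.ι ≫ μ'.left) := Flat.epi_of_flat_of_surjective _
  have hall : orbit a x = snd G T ≫ x := by
    refine Over.OverMorphism.ext ((cancel_epi (W.ι ≫ μ'.left)).1 ?_)
    simpa [w] using congrArg CommaMorphism.left heμ
  have := congrArg (lift g t ≫ ·) hall
  simpa [comp_orbit] using this

end Groth.Agent.GrpFixed
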