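import Groth.Agent.PureCritLib.Global
import Mathlib.RingTheory.Ideal.GoingDown

/-!
# Flat algebras with irreducible fibres without embedded components are projective
-/

set_option autoImplicit false
set_option backward.isDefEq.respectTransparency false
set_option linter.style.haveILetI false

universe u

open TensorProduct

namespace Groth.Agent.GrpFixed

variable {A B : Type u} [CommRing A] [CommRing B] [Algebra A B]

/-- The fibres are irreducible and have no embedded associated prime. -/
def UniqueAssFibres (A B : Type u) [CommRing A] [CommRing B] [Algebra A B] : Prop :=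
  ∀ (K : Type u) [Field K] [Algebra A K], (nilradical (K ⊗[A] B)).IsPrime ∧
    ∀ q ∈ associatedPrimes (K ⊗[A] B) (K ⊗[A] B), q ≤ nilradical (K ⊗[A] B)

theorem isUnivPure [Algebra.FiniteType A B] [Module.Flat A B] (h : UniqueAssFibres A B) :
    FlatCA.IsUnivPure A B B := by
  intro p _ A' B' N' _ _ _ _ _ _ _ _ _ _ _ _ _ _ f t' t _ _ P _ ⟨hpush, hbc, htt, _, hPt, hass, hno⟩
  haveI := hpush.symm
  haveI : Algebra.FiniteType A' B' :=
    Algebra.FiniteType.equiv (inferInstance : Algebra.FiniteType A' (A' ⊗[A] B))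
      (Algebra.IsPushout.equiv A A' B B')
  haveI : Module.Flat A' B' := Module.Flat.isBaseChange (R := A) (M := B) A' B' hpush.symm.out
  let E : ∀ (s : Ideal A') [s.IsPrime], s.Fiber B' ≃+* s.ResidueField ⊗[A] B := fun s _ =>
    let e1 : s.ResidueField ⊗[A'] B' ≃ₐ[A'] s.ResidueField ⊗[A'] (A' ⊗[A] B) :=
      Algebra.TensorProduct.congr AlgEquiv.refl (Algebra.IsPushout.equiv A A' B B').symm
    e1.toRingEquiv.trans (Algebra.TensorProduct.cancelBaseChange A A' A' s.ResidueField B).toRingEquiv
  letI : Algebra B' (t'.Fiber B') := Algebra.TensorProduct.rightAlgebra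
  let eN : B' ≃ₗ[B'] N' :=
    (TensorProduct.AlgebraTensorModule.rid B B' B').symm.trans hbc.equiv
  let e : FlatCA.fiberMod t' B' N' ≃ₗ[t'.Fiber B'] t'.Fiber B' :=
    (TensorProduct.AlgebraTensorModule.congr (LinearEquiv.refl (t'.Fiber B') (t'.Fiber B')) eN.symm).trans
      (TensorProduct.AlgebraTensorModule.rid B' (t'.Fiber B') (t'.Fiber B'))
  rw [LinearEquiv.AssociatedPrimes.eq e] at hass
  -- elements of `P` are nilpotent on the fibre over `t'`
  have hP : ∀ a ∈ P, IsNilpotent ((1 : t'.ResidueField) ⊗ₜ[A'] a) := fun a ha => by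
    have h1 : (Algebra.TensorProduct.includeRight (R := A') (A := t'.ResidueField) (B := B')) a ∈
        FlatCA.fiberIdeal t' P := Ideal.mem_map_of_mem _ ha
    obtain ⟨hq, x, hx⟩ := hass
    have h2 : (FlatCA.fiberIdeal t' P).map (E t').toRingHom ∈
        associatedPrimes (t'.ResidueField ⊗[A] B) (t'.ResidueField ⊗[A] B) := by
      refine ⟨Ideal.map_isPrime_of_equiv (E t'), E t' x, ?_⟩
      rw [hx]
      ext z
      obtain ⟨w, rfl⟩ := (E t').surjective z
      rw [Ideal.mem_map_iff_of_surjective (E t').toRingHom (E t').surjective]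
      refine (show (∃ w' ∈ _, _ = E t' w) ↔ w ∈ _ from
        ⟨fun ⟨w', hw', hww⟩ => (E t').injective hww ▸ hw', fun hw => ⟨w, hw, rfl⟩⟩).trans ?_
      rw [Ideal.mem_radical_iff, Ideal.mem_radical_iff]
      refine exists_congr fun n => ?_
      simp only [Submodule.mem_colon_singleton, Submodule.mem_bot, smul_eq_mul]
      rw [← map_pow, ← map_mul, map_eq_zero_iff _ (E t').injective]
    have h3 := (h t'.ResidueField).2 _ h2 (Ideal.mem_map_of_mem _ h1)
    exact (IsNilpotent.map_iff (E t').injective).1 h3
  -- a prime over `t`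
  haveI : Nontrivial (t.Fiber B') := by
    haveI := (h t.ResidueField).1
    haveI : Nontrivial (t.ResidueField ⊗[A] B) := by
      refine not_subsingleton_iff_nontrivial.1 fun hs => (h t.ResidueField).1.ne_top ?_
      exact Subsingleton.elim _ _
    exact (E t).toEquiv.nontrivial
  obtain ⟨M, hM⟩ := Ideal.exists_maximal (t.Fiber B')
  let Q := M.comap (Algebra.TensorProduct.includeRight (R := A') (A := t.ResidueField) (B := B'))
  haveI := hM.isPrime
  haveI : Q.IsPrime := Ideal.IsPrime.comap _
  haveI : Q.LiesOver t := ⟨by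
    ext a
    show _ ↔ Algebra.TensorProduct.includeRight (algebraMap A' B' a) ∈ M
    rw [AlgHom.commutes, IsScalarTower.algebraMap_apply A' t.ResidueField (t.Fiber B'),
      ← Ideal.algebraMap_residueField_eq_zero (I := t)]
    refine ⟨fun ha => by rw [ha, map_zero]; exact zero_mem _, fun ha => by_contra fun hne => ?_⟩
    exact hM.ne_top (Ideal.eq_top_of_isUnit_mem _ ha ((IsUnit.mk0 _ hne).map _))⟩
  obtain ⟨P₀, hP₀, _, hP₀t⟩ := Q.exists_ideal_le_liesOver_of_le (p := t') (q := t) htt
  refine hno Q (le_trans (fun a ha => ?_) hP₀) inferInstance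
  haveI := hP₀t
  letI : Algebra t'.ResidueField P₀.ResidueField :=
    (Ideal.ResidueField.mapₐ t' P₀ (Algebra.ofId A' B') hP₀t.over).toRingHom.toAlgebra
  haveI : IsScalarTower A' t'.ResidueField P₀.ResidueField := IsScalarTower.of_algebraMap_eq fun a =>
    ((Ideal.ResidueField.mapₐ t' P₀ (Algebra.ofId A' B') hP₀t.over).commutes a).symm
  let ψ : t'.Fiber B' →ₐ[A'] P₀.ResidueField := Algebra.TensorProduct.lift
    (IsScalarTower.toAlgHom A' t'.ResidueField P₀.ResidueField) (IsScalarTower.toAlgHom A' B' P₀.ResidueField)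
    fun _ _ => Commute.all _ _
  have h1 := (hP a ha).map ψ
  rw [Algebra.TensorProduct.lift_tmul, map_one, one_mul, isNilpotent_iff_eq_zero] at h1
  exact Ideal.algebraMap_residueField_eq_zero.1 h1

/-- A flat algebra of finite presentation whose fibres are irreducible without embedded components is
projective. -/
theorem projective_of_fibres [Algebra.FinitePresentation A B] [Module.Flat A B] (h : UniqueAssFibres A B) :
    Module.Projective A B :=
  PureCritLib.projective_of_isPure (A := A) (B := B) B fun p _ A' B' N' _ _ _ _ _ _ _ _ _ _ _ _ _ _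
    f t' t _ _ P _ _ => isUnivPure h p A' B' N' f t' t P

end Groth.Agent.GrpFixed
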