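import Groth.Agent.GrpFixedLib.Fibre
import Groth.Agent.GrpFixedLib.Open
import Groth.Agent.WeilResLib.EssFree

/-!
# The fixed point locus of a flat group with connected fibres is closed
-/

set_option autoImplicit false
set_option backward.isDefEq.respectTransparency false
set_option linter.style.haveILetI false

noncomputable section

universe u

open CategoryTheory CategoryTheory.Limits MonoidalCategory CartesianMonoidalCategory AlgebraicGeometry
open scoped MonObj TensorProduct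
open Groth.Agent.WeilRes (sp sp_comp)

namespace Groth.Agent.GrpFixed

variable {S : Scheme.{u}} {G X : Over S} [GrpObj G]

/-- The base change of an affine chart `v` of `G ×_S Spec R₁`. -/
theorem exists_chart_baseChange {R₁ B : Type u} [CommRing R₁] [CommRing B] [Algebra R₁ B]
    (c : Spec (CommRingCat.of R₁) ⟶ S) (v : Spec (CommRingCat.of B) ⟶ (G ⊗ Over.mk c).left) [IsOpenImmersion v]
    (hv : v ≫ (snd G (Over.mk c)).left = sp (algebraMap R₁ B))
    (R' : Type u) [CommRing R'] [Algebra R₁ R'] :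
    ∃ q : Spec (CommRingCat.of (R' ⊗[R₁] B)) ⟶ (G ⊗ Over.mk (sp (algebraMap R₁ R') ≫ c)).left,
      IsOpenImmersion q ∧
      IsPullback q (sp (Algebra.TensorProduct.includeRight (R := R₁) (A := R') (B := B)).toRingHom)
        (G ◁ (Over.homMk (sp (algebraMap R₁ R')) rfl : Over.mk (sp (algebraMap R₁ R') ≫ c) ⟶ Over.mk c)).left v ∧
      q ≫ (snd G (Over.mk (sp (algebraMap R₁ R') ≫ c))).left =
        sp (Algebra.TensorProduct.includeLeftRingHom (R := R₁) (A := R') (B := B)) := by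
  let T : Over S := Over.mk (sp (algebraMap R₁ R') ≫ c)
  let h : T ⟶ Over.mk c := Over.homMk (sp (algebraMap R₁ R')) rfl
  have hP : IsPullback (G ◁ h).left (snd G T).left (snd G (Over.mk c)).left h.left :=
    IsPullback.of_right (h₁₂ := (fst G (Over.mk c)).left) (v₁₃ := G.hom) (h₂₂ := c)
      (by
        rw [← Over.comp_left, whiskerLeft_fst, Over.fst_left, Over.snd_left]
        exact IsPullback.of_hasPullback G.hom T.hom)
      (by rw [← Over.comp_left, ← Over.comp_left, whiskerLeft_snd])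
      (by rw [Over.fst_left, Over.snd_left]; exact IsPullback.of_hasPullback G.hom c)
  have hT : IsPullback (sp (Algebra.TensorProduct.includeLeftRingHom (R := R₁) (A := R') (B := B)))
      (sp (Algebra.TensorProduct.includeRight (R := R₁) (A := R') (B := B)).toRingHom)
      (sp (algebraMap R₁ R')) (sp (algebraMap R₁ B)) :=
    isPullback_SpecMap_of_isPushout _ _ _ _ (CommRingCat.isPushout_tensorProduct R₁ R' B)
  let q := hP.lift (sp (Algebra.TensorProduct.includeRight (R := R₁) (A := R') (B := B)).toRingHom ≫ v)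
    (sp (Algebra.TensorProduct.includeLeftRingHom (R := R₁) (A := R') (B := B))) (by
      rw [Category.assoc, hv]; exact hT.w.symm)
  have hq : IsPullback q (sp (Algebra.TensorProduct.includeRight (R := R₁) (A := R') (B := B)).toRingHom)
      (G ◁ h).left v := by
    refine IsPullback.of_right (h₁₂ := (snd G T).left) (v₁₃ := h.left) (h₂₂ := (snd G (Over.mk c)).left) ?_
      (hP.lift_fst _ _ _) hP.flip
    rw [hv, hP.lift_snd]
    exact hT
  exact ⟨q, MorphismProperty.of_isPullback hq.flip ‹IsOpenImmersion v›, hq, hP.lift_snd _ _ _⟩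

/-- The point `x` is fixed: every point of the group fixes every point factoring through `x`. -/
def IsFix (a : AlgGrp.Action G X) ⦃T : Scheme.{u}⦄ (x : T ⟶ X.left) : Prop :=
  ∀ (T' : Over S) (g : T' ⟶ G) (y : T' ⟶ X), (∃ t : T'.left ⟶ T, t ≫ x = y.left) → lift g y ≫ a.act = y

theorem isLocalProp_isFix (a : AlgGrp.Action G X) : WeilRes.IsLocalProp (IsFix a) where
  comp h g hg := fun T' g' y ⟨t, ht⟩ => hg T' g' y ⟨t ≫ h, by rw [Category.assoc, ht]⟩
  of_cover {T} x {I S''} j hj hcov h := fun T' g y ⟨t, ht⟩ => by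
    haveI := hj
    let U : I → T'.left.Opens := fun i => t ⁻¹ᵁ (j i).opensRange
    refine Over.OverMorphism.ext (Scheme.Cover.hom_ext (T'.left.openCoverOfIsOpenCover U
      (TopologicalSpace.IsOpenCover.mk (eq_top_iff.2 fun p _ => ?_))) _ _ fun i => ?_)
    · obtain ⟨i, hi⟩ := hcov (t p)
      exact TopologicalSpace.Opens.mem_iSup.2 ⟨i, hi⟩
    · let T'' : Over S := Over.mk ((U i).ι ≫ T'.hom)
      let jι : T'' ⟶ T' := Over.homMk (U i).ι rfl
      have hr : Set.range ((U i).ι ≫ t) ⊆ Set.range (j i) := by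
        rintro _ ⟨p, rfl⟩
        exact p.2
      have h1 := h i T'' (jι ≫ g) (jι ≫ y) ⟨IsOpenImmersion.lift (j i) _ hr, by
        rw [IsOpenImmersion.lift_fac_assoc, Category.assoc, ht]; rfl⟩
      have h2 := congrArg CommaMorphism.left h1
      show (U i).ι ≫ _ = (U i).ι ≫ _
      rw [← comp_lift, Category.assoc] at h2
      simpa [jι] using h2

theorem isFix_iff (a : AlgGrp.Action G X) {T : Over S} (x : T ⟶ X) :
    IsFix a x.left ↔ ∀ (T' : Over S) (t : T' ⟶ T) (g : T' ⟶ G), lift g (t ≫ x) ≫ a.act = t ≫ x := by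
  refine ⟨fun h T' t g => h T' g (t ≫ x) ⟨t.left, rfl⟩, fun h T' g y ⟨t, ht⟩ => ?_⟩
  let t' : T' ⟶ T := Over.homMk t (by rw [← Over.w x, reassoc_of% ht, Over.w y])
  rw [show y = t' ≫ x from Over.OverMorphism.ext ht.symm]
  exact h T' t' g

variable [LocallyOfFinitePresentation G.hom] [Flat G.hom] [GeometricallyConnected G.hom]

/-- The coordinate ring of an affine chart around the unit section is projective. -/
theorem projective_chart {R₁ B : Type u} [CommRing R₁] [CommRing B] [Algebra R₁ B]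
    (c : Spec (CommRingCat.of R₁) ⟶ S) (v : Spec (CommRingCat.of B) ⟶ (G ⊗ Over.mk c).left) [IsOpenImmersion v]
    (hv : v ≫ (snd G (Over.mk c)).left = sp (algebraMap R₁ B))
    (e₀ : Spec (CommRingCat.of R₁) ⟶ Spec (CommRingCat.of B))
    (he : e₀ ≫ v = (lift (1 : Over.mk c ⟶ G) (𝟙 _)).left) : Module.Projective R₁ B := by
  haveI : Flat (snd G (Over.mk c)).left := by
    rw [Over.snd_left]; exact MorphismProperty.pullback_snd _ _ inferInstance
  haveI : LocallyOfFinitePresentation (snd G (Over.mk c)).left := by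
    rw [Over.snd_left]; exact MorphismProperty.pullback_snd _ _ inferInstance
  haveI : Flat (sp (algebraMap R₁ B)) := hv ▸ inferInstance
  haveI : LocallyOfFinitePresentation (sp (algebraMap R₁ B)) := hv ▸ inferInstance
  haveI : Module.Flat R₁ B := RingHom.flat_algebraMap_iff.1 ((HasRingHomProperty.Spec_iff (P := @Flat)).1 ‹_›)
  haveI : Algebra.FinitePresentation R₁ B :=
    RingHom.finitePresentation_algebraMap.1 ((HasRingHomProperty.Spec_iff (P := @LocallyOfFinitePresentation)).1 ‹_›)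
  refine projective_of_fibres fun K _ _ => ?_
  obtain ⟨q, hq, hqp, hq2⟩ := exists_chart_baseChange c v hv K
  haveI := hq
  haveI : Nontrivial (K ⊗[R₁] B) := by
    let e : Spec (CommRingCat.of K) ⟶ Spec (CommRingCat.of (K ⊗[R₁] B)) :=
      hqp.lift (lift (1 : Over.mk (sp (algebraMap R₁ K) ≫ c) ⟶ G) (𝟙 _)).left (sp (algebraMap R₁ K) ≫ e₀) (by
        rw [Category.assoc, he, ← Over.comp_left]
        have h1 := congrArg CommaMorphism.left (CartesianMonoidalCategory.hom_ext
          (lift (1 : Over.mk (sp (algebraMap R₁ K) ≫ c) ⟶ G) (𝟙 _) ≫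
            G ◁ (Over.homMk (sp (algebraMap R₁ K)) rfl : Over.mk (sp (algebraMap R₁ K) ≫ c) ⟶ Over.mk c))
          ((Over.homMk (sp (algebraMap R₁ K)) rfl : Over.mk (sp (algebraMap R₁ K) ≫ c) ⟶ Over.mk c) ≫
            lift (1 : Over.mk c ⟶ G) (𝟙 _)) (by simp) (by simp))
        exact h1)
    exact PrimeSpectrum.nonempty_iff_nontrivial.1 ⟨e (IsLocalRing.closedPoint K)⟩
  exact uniqueAss_of_openImmersion (T := K ⊗[R₁] B) G (sp (algebraMap R₁ K) ≫ c) q

/-- The fixed locus on an affine chart is defined by a finitely generated ideal. -/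
theorem exists_repIdeal_chart (a : AlgGrp.Action G X) {A R R₁ B : Type u} [CommRing A] [CommRing R] [CommRing R₁]
    [CommRing B] [Algebra A R] [Algebra.FiniteType A R] [Algebra R₁ B]
    (jA : Spec (CommRingCat.of A) ⟶ S) [Mono jA]
    (jR : Spec (CommRingCat.of R) ⟶ X.left) [Mono jR] (hjR : jR ≫ X.hom = sp (algebraMap A R) ≫ jA)
    (k : Spec (CommRingCat.of R₁) ⟶ X.left)
    (v : Spec (CommRingCat.of B) ⟶ (G ⊗ Over.mk (k ≫ X.hom)).left) [IsOpenImmersion v]
    (hv : v ≫ (snd G (Over.mk (k ≫ X.hom))).left = sp (algebraMap R₁ B))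
    (e₀ : Spec (CommRingCat.of R₁) ⟶ Spec (CommRingCat.of B))
    (he : e₀ ≫ v = (lift (1 : Over.mk (k ≫ X.hom) ⟶ G) (𝟙 _)).left)
    (σ' π' : R →+* B)
    (hσ : sp σ' ≫ jR = v ≫ (orbit a (Over.homMk k rfl : Over.mk (k ≫ X.hom) ⟶ X)).left)
    (hπ : sp π' ≫ jR = v ≫ (snd G (Over.mk (k ≫ X.hom)) ≫ (Over.homMk k rfl : Over.mk (k ≫ X.hom) ⟶ X)).left) :
    ∃ I : Ideal R₁, WeilRes.RepIdeal (IsFix a) k I ∧ I.FG := by
  classical
  haveI := projective_chart (k ≫ X.hom) v hv e₀ he
  obtain ⟨i, hi⟩ := Module.projective_def'.1 (inferInstance : Module.Projective R₁ B)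
  let π₀ : (B →₀ R₁) →ₗ[R₁] B := Finsupp.linearCombination R₁ (id : B → B)
  obtain ⟨s, hs⟩ := (Algebra.FiniteType.out : (⊤ : Subalgebra A R).FG)
  let d : R → B := fun r => σ' r - π' r
  let F : Finset R₁ := s.biUnion fun r => (i (d r)).support.image fun l => i (d r) l
  have hF : ∀ (R' : Type u) [CommRing R'] [Algebra R₁ R'],
      Ideal.span (F : Set R₁) ≤ RingHom.ker (algebraMap R₁ R') ↔ ∀ r ∈ s, (1 : R') ⊗ₜ[R₁] d r = 0 := by
    intro R' _ _
    simp only [WeilRes.one_tmul_eq_zero_iff_coord i π₀ hi R']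
    rw [Ideal.span_le]
    refine ⟨fun h r hr l => ?_, fun h z hz => ?_⟩
    · by_cases hl : i (d r) l = 0
      · rw [hl, map_zero]
      · exact h (Finset.mem_biUnion.2 ⟨r, hr, Finset.mem_image.2 ⟨l, Finsupp.mem_support_iff.2 hl, rfl⟩⟩)
    · obtain ⟨r, hr, hz'⟩ := Finset.mem_biUnion.1 hz
      obtain ⟨l, -, rfl⟩ := Finset.mem_image.1 hz'
      exact h r hr l
  refine ⟨Ideal.span F, fun R' _ φ => ?_, ⟨F, rfl⟩⟩
  letI : Algebra R₁ R' := φ.toAlgebra
  obtain ⟨q, hq, hqp, hq2⟩ := exists_chart_baseChange (k ≫ X.hom) v hv R'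
  haveI := hq
  let T : Over S := Over.mk (sp (algebraMap R₁ R') ≫ k ≫ X.hom)
  let h : T ⟶ Over.mk (k ≫ X.hom) := Over.homMk (sp (algebraMap R₁ R')) rfl
  let xk : Over.mk (k ≫ X.hom) ⟶ X := Over.homMk k rfl
  let xT : T ⟶ X := h ≫ xk
  let inR : B →+* R' ⊗[R₁] B := (Algebra.TensorProduct.includeRight : B →ₐ[R₁] R' ⊗[R₁] B).toRingHom
  -- the two maps on the chart
  have ho : q ≫ (orbit a xT).left = sp (inR.comp σ') ≫ jR := by
    rw [← sp_comp, Category.assoc, hσ, show orbit a xT = (G ◁ h) ≫ orbit a xk from by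
      simp [orbit, xT, comp_lift_assoc], Over.comp_left]
    exact hqp.w_assoc _
  have hp : q ≫ (snd G T ≫ xT).left = sp (inR.comp π') ≫ jR := by
    rw [← sp_comp, Category.assoc, hπ, show snd G T ≫ xT = (G ◁ h) ≫ snd G (Over.mk (k ≫ X.hom)) ≫ xk from by
      simp [xT], Over.comp_left]
    exact hqp.w_assoc _
  have hmain : IsFix a (sp φ ≫ k) ↔ inR.comp σ' = inR.comp π' := by
    rw [show sp φ ≫ k = xT.left from rfl, isFix_iff]
    constructor
    · intro hfix
      have h1 : orbit a xT = snd G T ≫ xT := hfix (G ⊗ T) (snd G T) (fst G T)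
      rw [h1, hp] at ho
      exact (congrArg CommRingCat.Hom.hom (Spec.map_injective ((cancel_mono jR).1 ho))).symm
    · intro hr T' t g
      refine fixed_of_open a xT q.opensRange (fun p => ?_) ?_ t g
      · let e : Spec (CommRingCat.of R') ⟶ Spec (CommRingCat.of (R' ⊗[R₁] B)) :=
          hqp.lift (lift (1 : T ⟶ G) (𝟙 _)).left (sp (algebraMap R₁ R') ≫ e₀) (by
            rw [Category.assoc, he]
            exact congrArg CommaMorphism.left (CartesianMonoidalCategory.hom_ext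
              (lift (1 : T ⟶ G) (𝟙 _) ≫ G ◁ h)
              (h ≫ lift (1 : Over.mk (k ≫ X.hom) ⟶ G) (𝟙 _)) (by simp) (by simp)))
        exact ⟨e p, by rw [← Scheme.Hom.comp_apply]; exact congrArg (fun z => z p) (hqp.lift_fst _ _ _)⟩
      · refine (cancel_epi q.isoOpensRange.hom).1 ?_
        refine ((Scheme.Hom.isoOpensRange_hom_ι_assoc q (orbit a xT).left).trans ?_).trans
          (Scheme.Hom.isoOpensRange_hom_ι_assoc q (snd G T ≫ xT).left).symm
        rw [ho, hp, hr]
  rw [hmain, show φ = algebraMap R₁ R' from rfl, hF]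
  constructor
  · intro hr r _
    show inR (σ' r - π' r) = 0
    rw [map_sub, show inR (σ' r) = inR (π' r) from RingHom.congr_fun hr r, sub_self]
  · intro hzero
    have hA : (inR.comp σ').comp (algebraMap A R) = (inR.comp π').comp (algebraMap A R) := by
      have h0 : sp ((inR.comp σ').comp (algebraMap A R)) = sp ((inR.comp π').comp (algebraMap A R)) := by
        refine (cancel_mono jA).1 ?_
        rw [← sp_comp, ← sp_comp (algebraMap A R), Category.assoc, Category.assoc, ← hjR, ← reassoc_of% ho,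
          ← reassoc_of% hp, Over.w, Over.w]
      exact congrArg CommRingCat.Hom.hom (Spec.map_injective h0)
    refine RingHom.ext fun r => ?_
    have hmem : r ∈ Algebra.adjoin A (s : Set R) := hs.symm ▸ Algebra.mem_top
    induction hmem using Algebra.adjoin_induction with
    | mem r hr =>
      refine sub_eq_zero.1 ?_
      show inR (σ' r) - inR (π' r) = 0
      rw [← map_sub]
      exact hzero r hr
    | algebraMap z => exact RingHom.congr_fun hA z
    | add x y _ _ hx hy => rw [map_add, map_add, hx, hy]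
    | mul x y _ _ hx hy => rw [map_mul, map_mul, hx, hy]

/-- The fixed locus is represented by a closed subscheme of finite presentation. -/
theorem exists_closed (a : AlgGrp.Action G X) [LocallyOfFiniteType X.hom] :
    ∃ (F : Scheme.{u}) (f : F ⟶ X.left), IsClosedImmersion f ∧ LocallyOfFinitePresentation f ∧
      ∀ ⦃T : Scheme.{u}⦄ (x : T ⟶ X.left), (∃ y, y ≫ f = x) ↔ IsFix a x := by
  suffices H : ∀ x₀ : X.left, ∃ (R : CommRingCat.{u}) (j : Spec (CommRingCat.of R) ⟶ X.left), IsOpenImmersion j ∧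
      x₀ ∈ Set.range j ∧ ∃ I : Ideal R, WeilRes.RepIdeal (IsFix a) j I ∧ (True → I.FG) by
    obtain ⟨F, f, h1, h2, h3⟩ := WeilRes.exists_closed (Q := True) (isLocalProp_isFix a) H
    exact ⟨F, f, h1, h3 trivial, h2⟩
  intro x₀
  obtain ⟨S₀, hS₀, hsS, -⟩ := exists_isAffineOpen_mem_and_subset (X := S) (x := X.hom x₀) (U := ⊤) trivial
  obtain ⟨U, hU, hxU, hUS⟩ := exists_isAffineOpen_mem_and_subset (X := X.left) (x := x₀)
    (U := X.hom ⁻¹ᵁ S₀) hsS
  let A : Type u := Γ(S, S₀)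
  let R : Type u := Γ(X.left, U)
  letI : Algebra A R := (X.hom.appLE S₀ U hUS).hom.toAlgebra
  haveI : Algebra.FiniteType A R :=
    RingHom.finiteType_algebraMap.1 (LocallyOfFiniteType.finiteType_appLE X.hom hS₀ hU hUS)
  let jR : Spec (CommRingCat.of R) ⟶ X.left := hU.fromSpec
  have hjR : jR ≫ X.hom = sp (algebraMap A R) ≫ hS₀.fromSpec := (hS₀.SpecMap_appLE_fromSpec X.hom hU hUS).symm
  obtain ⟨p₀, hp₀⟩ : x₀ ∈ Set.range jR := by
    show x₀ ∈ Set.range hU.fromSpec
    rw [hU.range_fromSpec]; exact hxU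
  let xR : Over.mk (jR ≫ X.hom) ⟶ X := Over.homMk jR rfl
  let eP : Over.mk (jR ≫ X.hom) ⟶ G ⊗ Over.mk (jR ≫ X.hom) := lift 1 (𝟙 _)
  let Ω : (G ⊗ Over.mk (jR ≫ X.hom)).left.Opens :=
    (orbit a xR).left ⁻¹ᵁ jR.opensRange ⊓ (snd G _ ≫ xR).left ⁻¹ᵁ jR.opensRange
  have hmem : eP.left p₀ ∈ Ω := by
    refine ⟨?_, ?_⟩
    · show (eP.left ≫ (orbit a xR).left) p₀ ∈ jR.opensRange
      rw [← Over.comp_left, show eP ≫ orbit a xR = xR from by
        rw [comp_orbit, Category.id_comp, WeilRes.act_one]]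
      exact ⟨p₀, rfl⟩
    · show (eP.left ≫ (snd G _ ≫ xR).left) p₀ ∈ jR.opensRange
      rw [← Over.comp_left, show eP ≫ snd G _ ≫ xR = xR from by simp [eP]]
      exact ⟨p₀, rfl⟩
  obtain ⟨V, hV, hpV, hVΩ⟩ := exists_isAffineOpen_mem_and_subset hmem
  obtain ⟨_, ⟨r, rfl⟩, hrp, hr⟩ := PrimeSpectrum.isTopologicalBasis_basic_opens.exists_subset_of_mem_open
    (show p₀ ∈ eP.left ⁻¹' (V : Set (G ⊗ Over.mk (jR ≫ X.hom)).left) from hpV)
    (V.2.preimage eP.left.continuous)
  let R₁ : Type u := Localization.Away r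
  haveI : IsOpenImmersion (sp (algebraMap R R₁)) := WeilRes.isOpenImmersion_sp_away r
  let k : Spec (CommRingCat.of R₁) ⟶ X.left := sp (algebraMap R R₁) ≫ jR
  refine ⟨CommRingCat.of R₁, k, inferInstance, ⟨⟨p₀.asIdeal.map (algebraMap R R₁),
    IsLocalization.isPrime_of_isPrime_disjoint (Submonoid.powers r) R₁ _ p₀.isPrime
      ((Ideal.disjoint_powers_iff_notMem r p₀.isPrime.isRadical).2 hrp)⟩, ?_⟩, ?_⟩
  · rw [← hp₀, Scheme.Hom.comp_apply]
    refine congrArg jR (PrimeSpectrum.ext ?_)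
    exact IsLocalization.under_map_of_isPrime_disjoint (Submonoid.powers r) R₁ p₀.isPrime
      ((Ideal.disjoint_powers_iff_notMem r p₀.isPrime.isRadical).2 hrp)
  let hk : Over.mk (k ≫ X.hom) ⟶ Over.mk (jR ≫ X.hom) :=
    Over.homMk (sp (algebraMap R R₁)) (Category.assoc _ _ _).symm
  let wh : G ⊗ Over.mk (k ≫ X.hom) ⟶ G ⊗ Over.mk (jR ≫ X.hom) := G ◁ hk
  have hP : IsPullback wh.left (snd G (Over.mk (k ≫ X.hom))).left (snd G (Over.mk (jR ≫ X.hom))).left hk.left :=
    IsPullback.of_right (h₁₂ := (fst G (Over.mk (jR ≫ X.hom))).left) (v₁₃ := G.hom) (h₂₂ := jR ≫ X.hom)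
      (by
        rw [← Over.comp_left, whiskerLeft_fst, Over.fst_left, Over.snd_left]
        rw [show hk.left ≫ (jR ≫ X.hom) = k ≫ X.hom from (Category.assoc _ _ _).symm]
        exact IsPullback.of_hasPullback G.hom (k ≫ X.hom))
      (by rw [← Over.comp_left, ← Over.comp_left, whiskerLeft_snd])
      (by rw [Over.fst_left, Over.snd_left]; exact IsPullback.of_hasPullback G.hom _)
  let V₁ : (G ⊗ Over.mk (k ≫ X.hom)).left.Opens := wh.left ⁻¹ᵁ V
  haveI : IsAffine (V : Scheme.{u}) := hV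
  have hW : IsPullback (pullback.fst V.ι wh.left) (pullback.snd V.ι wh.left ≫ (snd G (Over.mk (k ≫ X.hom))).left)
      (V.ι ≫ (snd G (Over.mk (jR ≫ X.hom))).left) (sp (algebraMap R R₁)) :=
    (IsPullback.of_hasPullback V.ι wh.left).paste_vert hP
  haveI : IsAffineHom (sp (algebraMap R R₁)) :=
    inferInstanceAs (IsAffineHom (Spec.map (CommRingCat.ofHom (algebraMap R R₁))))
  haveI : IsAffineHom (pullback.fst (V.ι ≫ (snd G (Over.mk (jR ≫ X.hom))).left) (sp (algebraMap R R₁))) :=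
    MorphismProperty.pullback_fst _ _ inferInstance
  haveI : IsAffine (pullback (V.ι ≫ (snd G (Over.mk (jR ≫ X.hom))).left) (sp (algebraMap R R₁))) :=
    isAffine_of_isAffineHom (pullback.fst _ _)
  haveI : IsAffine (pullback V.ι wh.left) :=
    IsAffine.of_isIso hW.isoPullback.hom
  let B : Type u := Γ(pullback V.ι wh.left, ⊤)
  let v : Spec (CommRingCat.of B) ⟶ (G ⊗ Over.mk (k ≫ X.hom)).left :=
    (pullback V.ι wh.left).isoSpec.inv ≫ pullback.snd V.ι wh.left
  letI : Algebra R₁ B := (Spec.preimage (v ≫ (snd G (Over.mk (k ≫ X.hom))).left)).hom.toAlgebra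
  have hv : v ≫ (snd G (Over.mk (k ≫ X.hom))).left = sp (algebraMap R₁ B) := (Spec.map_preimage _).symm
  have hvr : ∀ b, wh.left (v b) ∈ V := by
    intro b
    have e : v ≫ wh.left = ((pullback V.ι wh.left).isoSpec.inv ≫ pullback.fst V.ι wh.left) ≫ V.ι := by
      simp [v, pullback.condition]
    show (v ≫ wh.left) b ∈ V
    rw [e]
    exact (((pullback V.ι wh.left).isoSpec.inv ≫ pullback.fst V.ι wh.left) b).2
  have hσr : ∀ f : G ⊗ Over.mk (jR ≫ X.hom) ⟶ X, Ω ≤ f.left ⁻¹ᵁ jR.opensRange →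
      ∃ σ' : R →+* B, sp σ' ≫ jR = v ≫ (wh ≫ f).left := by
    intro f hf
    have hr' : Set.range (v ≫ (wh ≫ f).left) ⊆ Set.range jR := by
      rintro _ ⟨b, rfl⟩
      exact hf (hVΩ (hvr b))
    obtain ⟨σ₀, hσ₀⟩ := Spec.map_surjective (IsOpenImmersion.lift jR _ hr')
    exact ⟨σ₀.hom, by rw [show sp σ₀.hom = Spec.map σ₀ from rfl, hσ₀, IsOpenImmersion.lift_fac]⟩
  obtain ⟨σ', hσ'⟩ := hσr (orbit a xR) inf_le_left
  obtain ⟨π', hπ'⟩ := hσr (snd G _ ≫ xR) inf_le_right
  have hxk : (Over.homMk k rfl : Over.mk (k ≫ X.hom) ⟶ X) = hk ≫ xR := rfl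
  have he : Set.range (lift (1 : Over.mk (k ≫ X.hom) ⟶ G) (𝟙 _)).left ⊆ Set.range v := by
    rintro _ ⟨b, rfl⟩
    have h1 : wh.left ((lift (1 : Over.mk (k ≫ X.hom) ⟶ G) (𝟙 _)).left b) ∈ V := by
      rw [← Scheme.Hom.comp_apply, ← Over.comp_left,
        show lift (1 : Over.mk (k ≫ X.hom) ⟶ G) (𝟙 _) ≫ wh = hk ≫ eP from
          CartesianMonoidalCategory.hom_ext _ _ (by simp [wh, eP]) (by simp [wh, eP]), Over.comp_left,
        Scheme.Hom.comp_apply]
      exact hr (show hk.left b ∈ _ from (WeilRes.sp_away_range r).le ⟨b, rfl⟩)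
    obtain ⟨z, hz⟩ : (lift (1 : Over.mk (k ≫ X.hom) ⟶ G) (𝟙 _)).left b ∈ Set.range (pullback.snd V.ι wh.left) := by
      rw [Scheme.Pullback.range_snd, Set.mem_preimage, Scheme.Opens.range_ι]
      exact h1
    refine ⟨(pullback V.ι wh.left).isoSpec.hom z, ?_⟩
    show ((pullback V.ι wh.left).isoSpec.hom ≫ (pullback V.ι wh.left).isoSpec.inv ≫ pullback.snd V.ι wh.left) z = _
    rw [Iso.hom_inv_id_assoc, hz]
  obtain ⟨I, hI, hfg⟩ := exists_repIdeal_chart a hS₀.fromSpec jR hjR k v hv (IsOpenImmersion.lift v _ he)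
    (IsOpenImmersion.lift_fac _ _ _) σ' π'
    (by rw [hσ', hxk]; congr 2; simp [wh, orbit, comp_lift_assoc])
    (by rw [hπ', hxk]; congr 2; simp [wh])
  exact ⟨I, hI, fun _ => hfg⟩

end Groth.Agent.GrpFixed
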